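import Groth.Agent.GitQuot.GrpdShear
import Groth.Agent.CMMor.NoethBaseChange
import Groth.Agent.CMMor.BaseChange
import Groth.Agent.CMMor.Locus
import Groth.Agent.CMMor.Criterion
import Groth.Agent.SchemeMorphisms.FibreBaseChange
import Groth.Agent.FibreDim.Retrocompact
import Groth.Agent.Flatmor4.CMComp

/-!
# Good loci of a restriction of a groupoid are saturated
-/

set_option autoImplicit false
set_option backward.isDefEq.respectTransparency.types false
universe u

open AlgebraicGeometry CategoryTheory CategoryTheory.Limits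

noncomputable section

namespace Groth.GrpdSlice

open Groth.GrpdBasic

variable {S : Scheme.{u}} (G : Grpd.GroupoidScheme S) {U' : Scheme.{u}} (g : U' ⟶ G.U)

/-- The source of an arrow with target in `U'`. -/
abbrev srcMap : pullback g G.t ⟶ G.U := pullback.snd g G.t ≫ G.s

/-- Pairs of arrows with a common target in `U'`. -/
abbrev Pair : Scheme.{u} := pullback (pullback.fst g G.t) (pullback.fst g G.t)

theorem pair_tgt :
    (pullback.fst (pullback.fst g G.t) (pullback.fst g G.t) ≫ pullback.snd g G.t) ≫ G.t =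
      (pullback.snd (pullback.fst g G.t) (pullback.fst g G.t) ≫ pullback.snd g G.t) ≫ G.t := by
  rw [Category.assoc, ← pullback.condition, pullback.condition_assoc, pullback.condition, Category.assoc]

/-- The first arrow inverse composed with the second. -/
def div : Pair G g ⟶ G.R :=
  comp G ((pullback.fst (pullback.fst g G.t) (pullback.fst g G.t) ≫ pullback.snd g G.t) ≫ G.i)
    (pullback.snd (pullback.fst g G.t) (pullback.fst g G.t) ≫ pullback.snd g G.t)
    (by rw [Category.assoc, G.i_s, pair_tgt])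

theorem div_t : div G g ≫ G.t = pullback.fst (pullback.fst g G.t) (pullback.fst g G.t) ≫ srcMap G g := by
  rw [div, comp_t, Category.assoc, G.i_t, Category.assoc]

theorem div_s : div G g ≫ G.s = pullback.snd (pullback.fst g G.t) (pullback.fst g G.t) ≫ srcMap G g := by
  rw [div, comp_s, Category.assoc]

theorem precomp_div {T : Scheme.{u}} (m : T ⟶ Pair G g) {α β : T ⟶ G.R}
    (hα : (m ≫ pullback.fst (pullback.fst g G.t) (pullback.fst g G.t)) ≫ pullback.snd g G.t = α)
    (hβ : (m ≫ pullback.snd (pullback.fst g G.t) (pullback.fst g G.t)) ≫ pullback.snd g G.t = β)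
    (h : (α ≫ G.i) ≫ G.s = β ≫ G.t) : m ≫ div G g = comp G (α ≫ G.i) β h := by
  rw [div, precomp_comp]
  exact comp_congr G _ (by rw [← hα]; simp only [Category.assoc]) (by rw [← hβ]; simp only [Category.assoc])

theorem comp_precomp_div {T : Scheme.{u}} (m : T ⟶ Pair G g) :
    comp G ((m ≫ pullback.fst (pullback.fst g G.t) (pullback.fst g G.t)) ≫ pullback.snd g G.t) (m ≫ div G g)
      (by simp only [Category.assoc, div_t]) =
      (m ≫ pullback.snd (pullback.fst g G.t) (pullback.fst g G.t)) ≫ pullback.snd g G.t := by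
  have hw : (((m ≫ pullback.fst (pullback.fst g G.t) (pullback.fst g G.t)) ≫ pullback.snd g G.t) ≫ G.i) ≫ G.s =
      ((m ≫ pullback.snd (pullback.fst g G.t) (pullback.fst g G.t)) ≫ pullback.snd g G.t) ≫ G.t := by
    rw [Category.assoc _ G.i G.s, G.i_s]
    simpa only [Category.assoc] using congrArg (m ≫ ·) (pair_tgt G g)
  exact (comp_congr G _ rfl (precomp_div G g m rfl rfl hw)).trans (comp_inv_comp_cancel G _ _ hw)

theorem isPullback_div_t :
    IsPullback (pullback.fst (pullback.fst g G.t) (pullback.fst g G.t)) (div G g) (srcMap G g) G.t := by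
  refine ⟨⟨(div_t G g).symm⟩, ⟨PullbackCone.IsLimit.mk _
    (fun c => pullback.lift c.fst (pullback.lift (c.fst ≫ pullback.fst g G.t)
      (comp G (c.fst ≫ pullback.snd g G.t) c.snd (by rw [Category.assoc]; exact c.condition))
      (by rw [comp_t, Category.assoc, pullback.condition, Category.assoc]))
      (by rw [pullback.lift_fst]))
    (fun c => pullback.lift_fst _ _ _) (fun c => ?_) (fun c m h₁ h₂ => ?_)⟩⟩
  · exact (precomp_div G g _ (congrArg (· ≫ _) (pullback.lift_fst _ _ _))
      ((congrArg (· ≫ _) (pullback.lift_snd _ _ _)).trans (pullback.lift_snd _ _ _))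
      (by rw [Category.assoc, G.i_s, comp_t])).trans
      (inv_comp_cancel G _ _ (by rw [Category.assoc]; exact c.condition))
  · refine pullback.hom_ext (h₁.trans (pullback.lift_fst _ _ _).symm) (pullback.hom_ext ?_ ?_)
    · rw [Category.assoc, ← pullback.condition, ← Category.assoc, h₁, Category.assoc,
        pullback.lift_snd_assoc, pullback.lift_fst]
    · rw [pullback.lift_snd, pullback.lift_snd]
      exact (comp_precomp_div G g m).symm.trans (comp_congr G _ (congrArg (· ≫ _) h₁) h₂)

theorem isPullback_div_s :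
    IsPullback (pullback.snd (pullback.fst g G.t) (pullback.fst g G.t)) (div G g) (srcMap G g) G.s := by
  refine ⟨⟨(div_s G g).symm⟩, ⟨PullbackCone.IsLimit.mk _
    (fun c => pullback.lift (pullback.lift (c.fst ≫ pullback.fst g G.t)
      (comp G (c.fst ≫ pullback.snd g G.t) (c.snd ≫ G.i)
        (by rw [Category.assoc c.snd, G.i_t, Category.assoc]; exact c.condition))
      (by rw [comp_t, Category.assoc, pullback.condition, Category.assoc])) c.fst
      (by rw [pullback.lift_fst]))
    (fun c => pullback.lift_snd _ _ _) (fun c => ?_) (fun c m h₁ h₂ => ?_)⟩⟩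
  · have hc : (c.fst ≫ pullback.snd g G.t) ≫ G.s = (c.snd ≫ G.i) ≫ G.t := by
      rw [Category.assoc c.snd, G.i_t, Category.assoc]; exact c.condition
    refine (precomp_div G g _ ((congrArg (· ≫ _) (pullback.lift_fst _ _ _)).trans (pullback.lift_snd _ _ _))
      (congrArg (· ≫ _) (pullback.lift_snd _ _ _)) (by rw [Category.assoc, G.i_s, comp_t])).trans ?_
    exact (comp_congr G _ rfl (comp_inv_cancel G _ _ hc).symm).trans
      (inv_comp_cancel G _ c.snd (by rw [comp_s, Category.assoc, G.i_s]))
  · refine pullback.hom_ext (pullback.hom_ext ?_ ?_) (h₁.trans (pullback.lift_snd _ _ _).symm)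
    · rw [Category.assoc, pullback.condition, ← Category.assoc, h₁, Category.assoc,
        pullback.lift_fst_assoc, pullback.lift_fst]
    · rw [pullback.lift_fst, pullback.lift_snd]
      refine (comp_cancel_inv G _ (m ≫ div G g) (by simp only [Category.assoc, div_t])).symm.trans ?_
      exact comp_congr G _ ((comp_precomp_div G g m).trans (congrArg (· ≫ _) h₁)) (congrArg (· ≫ G.i) h₂)

variable [Flat G.s] [LocallyOfFinitePresentation G.s] [Flat G.t] [LocallyOfFinitePresentation G.t]
  [LocallyOfFinitePresentation g]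

theorem isCMAt_srcMap_of_eq {z z' : ↥(pullback g G.t)}
    (e : pullback.fst g G.t z = pullback.fst g G.t z') (hz : MoreMor.IsCMAt (srcMap G g) z) :
    MoreMor.IsCMAt (srcMap G g) z' := by
  haveI : LocallyOfFinitePresentation (srcMap G g) := inferInstance
  obtain ⟨w, rfl, rfl⟩ := Scheme.Pullback.exists_preimage_pullback z z' e
  have h : MoreMor.IsCMAt (div G g) w := Groth.CMMor.isCMAt_baseChange _ _ _ _ (isPullback_div_t G g) w hz
  refine ⟨Groth.CMMor.flat_stalkMap_of_baseChange (srcMap G g) G.s (div G g) _ (isPullback_div_s G g) w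
    (Flat.stalkMap _ _) h.1, ?_⟩
  exact (Groth.CMMor.isCM_fiberStalk_baseChange_iff (srcMap G g) G.s (div G g) _ (isPullback_div_s G g) w).1 h.2

theorem quasiFiniteAt_srcMap_of_eq {z z' : ↥(pullback g G.t)}
    (e : pullback.fst g G.t z = pullback.fst g G.t z') (hz : (srcMap G g).QuasiFiniteAt z) :
    (srcMap G g).QuasiFiniteAt z' := by
  haveI : LocallyOfFiniteType (srcMap G g) := inferInstance
  obtain ⟨w, rfl, rfl⟩ := Scheme.Pullback.exists_preimage_pullback z z' e
  rw [← Groth.SchemeMorphisms.quasiFiniteAt_baseChange_iff (srcMap G g) G.s _ (div G g) (isPullback_div_s G g) w,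
    Groth.SchemeMorphisms.quasiFiniteAt_baseChange_iff (srcMap G g) G.t _ (div G g) (isPullback_div_t G g) w]
  exact hz

/-- An affine open of `U'` above which every point is good. -/
theorem exists_affine_good (P : Set ↥(pullback g G.t)) (hP : IsOpen P)
    (hsat : ∀ z z', pullback.fst g G.t z = pullback.fst g G.t z' → z ∈ P → z' ∈ P)
    (z₀ : ↥(pullback g G.t)) (hz₀ : z₀ ∈ P) :
    ∃ (W : U'.Opens) (p : ↥(pullback (W.ι ≫ g) G.t)) (w : ↥W) (k : pullback (W.ι ≫ g) G.t ⟶ pullback g G.t),
      IsAffineOpen W ∧ W.ι w = pullback.fst g G.t z₀ ∧ pullback.fst (W.ι ≫ g) G.t p = w ∧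
        IsOpenImmersion k ∧ k ≫ pullback.snd g G.t = pullback.snd (W.ι ≫ g) G.t ∧ k p = z₀ ∧ ∀ q, k q ∈ P := by
  have hopen : IsOpen (⇑(pullback.fst g G.t) '' P) := (pullback.fst g G.t).isOpenMap _ hP
  obtain ⟨W, hW, hzW, hWU⟩ := exists_isAffineOpen_mem_and_subset (U := ⟨_, hopen⟩)
    (show pullback.fst g G.t z₀ ∈ (⟨_, hopen⟩ : U'.Opens) from ⟨z₀, hz₀, rfl⟩)
  let k : pullback (W.ι ≫ g) G.t ⟶ pullback g G.t :=
    pullback.lift (pullback.fst _ _ ≫ W.ι) (pullback.snd _ _) (by rw [Category.assoc, pullback.condition])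
  have hk : IsPullback k (pullback.fst (W.ι ≫ g) G.t) (pullback.fst g G.t) W.ι :=
    IsPullback.of_right (by
      rw [show k ≫ pullback.snd g G.t = pullback.snd (W.ι ≫ g) G.t from pullback.lift_snd _ _ _]
      exact (IsPullback.of_hasPullback (W.ι ≫ g) G.t).flip) (pullback.lift_fst _ _ _)
      (IsPullback.of_hasPullback g G.t).flip
  haveI : IsOpenImmersion k := MorphismProperty.of_isPullback hk.flip inferInstance
  obtain ⟨p, hp₁, hp₂⟩ := Scheme.exists_preimage_of_isPullback hk z₀ ⟨_, hzW⟩ rfl
  refine ⟨W, p, ⟨_, hzW⟩, k, hW, rfl, hp₂, inferInstance, pullback.lift_snd _ _ _, hp₁, fun q => ?_⟩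
  obtain ⟨z, hz, hzq⟩ := hWU (pullback.fst (W.ι ≫ g) G.t q).2
  refine hsat z _ ?_ hz
  rw [hzq, ← Scheme.Hom.comp_apply k, hk.w]
  rfl

end Groth.GrpdSlice
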