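import Groth.Agent.GitQuot.Slice.At
import Groth.Agent.GitQuot.Slice.Saturate
import Groth.Agent.EGA43Topo.QuasiFiniteAffine
import Groth.Agent.AlgSpBasic.CodimZeroFibre

/-!
# Slices of groupoids with Cohen-Macaulay source and target
-/

set_option autoImplicit false
set_option backward.isDefEq.respectTransparency.types false
universe u

open AlgebraicGeometry CategoryTheory CategoryTheory.Limits

noncomputable section

namespace Groth.GrpdSlice

theorem flat_of_forall_isCMAt {X Y : Scheme.{u}} (f : X ⟶ Y) (h : ∀ x, Grpd.IsCMAt f x) : Flat f :=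
  Flat.of_stalkMap _ fun x => ((Groth.Flatmor4.isCMAt_iff f x).2 (h x)).1

variable {S : Scheme.{u}} (G : Grpd.GroupoidScheme S) [LocallyOfFinitePresentation G.s]
  [LocallyOfFinitePresentation G.t] (u : G.U) [LocallyOfFiniteType (G.U.fromSpecResidueField u)]

theorem exists_nice_slice (hs : ∀ r : G.R, Grpd.IsCMAt G.s r) (ht : ∀ r : G.R, Grpd.IsCMAt G.t r) :
    ∃ (U' : Scheme.{u}) (_ : IsAffine U') (g : U' ⟶ G.U) (u' : U') (p : ↑(pullback g G.t)),
      IsImmersion g ∧ LocallyOfFinitePresentation g ∧ g u' = u ∧ pullback.fst g G.t p = u' ∧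
      pullback.snd g G.t p = G.e u ∧ (∀ q, MoreMor.IsCMAt (srcMap G g) q) ∧
      LocallyOfFinitePresentation (srcMap G g) ∧
      FlatMor.fibreDimAt (srcMap G g) p = topologicalKrullDim ↥(G.stabilizerToU.fiber u) ∧
      (topologicalKrullDim ↥(G.stabilizerToU.fiber u) = 0 → LocallyQuasiFinite (srcMap G g)) := by
  have := flat_of_forall_isCMAt G.s hs
  have := flat_of_forall_isCMAt G.t ht
  obtain ⟨d₁, d, hd₁, hd, hle⟩ := exists_dim_stabilizer_eq_nat G u
  obtain ⟨V, hV, l, u₀, z₀, hu₀, hz₀, hz₀e, hcm, hdim⟩ :=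
    exists_slice G u (hs _) d₁ d (d - d₁) hd₁ hd (Nat.add_sub_cancel' hle).le
  rw [Nat.sub_sub_self hle, ← hd₁] at hdim
  let i := slice hV l
  have := isImmersion_slice hV l
  have := lfp_slice hV l
  let P : Set ↥(pullback i G.t) := {z | MoreMor.IsCMAt (srcMap G i) z ∧
    (topologicalKrullDim ↥(G.stabilizerToU.fiber u) = 0 → (srcMap G i).QuasiFiniteAt z)}
  have hP : IsOpen P := by
    have h1 := Groth.CMMor.isOpen_isCMAt (srcMap G i)
    by_cases h0 : topologicalKrullDim ↥(G.stabilizerToU.fiber u) = 0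
    · rw [show P = {z | MoreMor.IsCMAt (srcMap G i) z} ∩ {z | (srcMap G i).QuasiFiniteAt z} from
        Set.ext fun z => ⟨fun h => ⟨h.1, h.2 h0⟩, fun h => ⟨h.1, fun _ => h.2⟩⟩]
      exact h1.inter (srcMap G i).isOpen_quasiFiniteAt
    · rw [show P = {z | MoreMor.IsCMAt (srcMap G i) z} from
        Set.ext fun z => ⟨fun h => h.1, fun h => ⟨h, fun e => absurd e h0⟩⟩]
      exact h1
  have hsat : ∀ z z', pullback.fst i G.t z = pullback.fst i G.t z' → z ∈ P → z' ∈ P := fun z z' e hz =>
    ⟨isCMAt_srcMap_of_eq G i e hz.1, fun h0 => quasiFiniteAt_srcMap_of_eq G i e (hz.2 h0)⟩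
  have hz : z₀ ∈ P := ⟨(Groth.Flatmor4.isCMAt_iff _ _).2 hcm, fun h0 => by
    rw [Scheme.Hom.quasiFiniteAt_iff_isOpen_singleton_asFiber,
      ← Groth.AlgSpBasic.fibreDimAt_zero_iff_isOpen, hdim, h0]⟩
  obtain ⟨W, p, w, k, hW, hw, hp, hk, hk₂, hkp, hall⟩ := exists_affine_good G i P hP hsat z₀ hz
  have hh : srcMap G (W.ι ≫ i) = k ≫ srcMap G i :=
    (congrArg (· ≫ G.s) hk₂.symm).trans (Category.assoc _ _ _)
  refine ⟨W.toScheme, hW, W.ι ≫ i, w, p, inferInstance, inferInstance, ?_, hp, ?_, ?_, inferInstance, ?_, ?_⟩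
  · rw [Scheme.Hom.comp_apply, hw, hz₀, hu₀]
  · rw [← hk₂, Scheme.Hom.comp_apply, hkp, hz₀e]
  · intro q
    rw [hh, Groth.CMMor.isCMAt_openImmersion_comp]
    exact (hall q).1
  · rw [hh, Groth.FibreDim.fibreDimAt_openImmersion_comp, hkp, hdim]
  · intro h0
    have : LocallyOfFinitePresentation (srcMap G i) := inferInstance
    have : LocallyOfFiniteType (srcMap G (W.ι ≫ i)) := inferInstance
    rw [← Scheme.Hom.quasiFiniteLocus_eq_top_iff, eq_top_iff]
    intro q _
    show (srcMap G (W.ι ≫ i)).QuasiFiniteAt q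
    rw [hh, Scheme.Hom.quasiFiniteAt_comp_iff_of_isOpenImmersion]
    exact (hall q).2 h0

section Restriction

omit [LocallyOfFiniteType (G.U.fromSpecResidueField u)]

variable {U' : Scheme.{u}} (g : U' ⟶ G.U)

/-- The inversion of the restricted groupoid. -/
def flipArrow : pullback (srcMap G g) g ⟶ pullback (srcMap G g) g :=
  pullback.lift (pullback.lift (pullback.snd (srcMap G g) g)
      (pullback.fst (srcMap G g) g ≫ pullback.snd g G.t ≫ G.i)
      (by simp only [Category.assoc, G.i_t]; exact pullback.condition.symm))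
    (pullback.fst (srcMap G g) g ≫ pullback.fst g G.t)
    (by simp only [srcMap, pullback.lift_snd_assoc, Category.assoc, G.i_s, pullback.condition])

theorem flipArrow_snd : flipArrow G g ≫ pullback.snd (srcMap G g) g =
    pullback.fst (srcMap G g) g ≫ pullback.fst g G.t := pullback.lift_snd _ _ _

theorem flipArrow_flipArrow : flipArrow G g ≫ flipArrow G g = 𝟙 _ := by
  have h : flipArrow G g ≫ pullback.fst (srcMap G g) g = pullback.lift (pullback.snd (srcMap G g) g)
      (pullback.fst (srcMap G g) g ≫ pullback.snd g G.t ≫ G.i)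
      (by simp only [Category.assoc, G.i_t]; exact pullback.condition.symm) := pullback.lift_fst _ _ _
  refine pullback.hom_ext (pullback.hom_ext ?_ ?_) ?_
  · simp only [flipArrow, Category.assoc, Category.id_comp, pullback.lift_fst, pullback.lift_fst_assoc,
      pullback.lift_snd]
  · simp only [flipArrow, Category.assoc, Category.id_comp, pullback.lift_fst, pullback.lift_fst_assoc,
      pullback.lift_snd, pullback.lift_snd_assoc, Groth.GrpdBasic.i_i, Category.comp_id]
  · simp only [flipArrow, Category.assoc, Category.id_comp, pullback.lift_snd, pullback.lift_fst_assoc,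
      pullback.lift_fst]

instance isIso_flipArrow : IsIso (flipArrow G g) := ⟨⟨_, flipArrow_flipArrow G g, flipArrow_flipArrow G g⟩⟩

end Restriction

end Groth.GrpdSlice
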