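import Groth.Agent.FlatMor2.FibCrit.RegChart
import Groth.Agent.Ega4Algebra2.SchemeFibre
import Groth.Agent.Flatmor4.CMComp
import Groth.Agent.S1617

/-!
# Local rings of slices and closed points of fibres
-/

set_option autoImplicit false
set_option backward.isDefEq.respectTransparency.types false
universe u

open AlgebraicGeometry CategoryTheory CategoryTheory.Limits IsLocalRing Topology

noncomputable section

namespace Groth.GrpdSlice

/-- The kernel on stalks of a morphism which is surjective on sections of an affine chart. -/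
theorem ker_stalkMap_of_surjective_app {Z X : Scheme.{u}} (i : Z ⟶ X) {U : X.Opens} (hU : IsAffineOpen U)
    (hV : IsAffineOpen (i ⁻¹ᵁ U)) (hsurj : Function.Surjective (i.app U).hom) (z : Z) (hz : i z ∈ U) :
    RingHom.ker (i.stalkMap z).hom =
      (RingHom.ker (i.app U).hom).map (X.presheaf.germ U (i z) hz).hom := by
  letI := TopCat.Presheaf.algebra_section_stalk X.presheaf (⟨i z, hz⟩ : U)
  letI := TopCat.Presheaf.algebra_section_stalk Z.presheaf (⟨z, hz⟩ : (i ⁻¹ᵁ U : Z.Opens))
  have hlocX : IsLocalization.AtPrime (X.presheaf.stalk (i z)) (hU.primeIdealOf ⟨i z, hz⟩).asIdeal :=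
    hU.isLocalization_stalk ⟨i z, hz⟩
  have hlocZ : IsLocalization.AtPrime (Z.presheaf.stalk z) (hV.primeIdealOf ⟨z, hz⟩).asIdeal :=
    hV.isLocalization_stalk ⟨z, hz⟩
  set p := (hU.primeIdealOf ⟨i z, hz⟩).asIdeal
  set q := (hV.primeIdealOf ⟨z, hz⟩).asIdeal
  set φ := (i.app U).hom
  have hgerm : ∀ a, (i.stalkMap z).hom (algebraMap _ (X.presheaf.stalk (i z)) a) =
      algebraMap _ (Z.presheaf.stalk z) (φ a) := fun a ↦ Scheme.Hom.germ_stalkMap_apply i U z hz a
  have hmem' : ∀ a, φ a ∉ q → a ∉ p := by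
    intro a ha hp
    apply ha
    by_contra hnq
    have h1 : IsUnit ((i.stalkMap z).hom (algebraMap _ (X.presheaf.stalk (i z)) a)) := by
      rw [hgerm]
      exact IsLocalization.map_units (Z.presheaf.stalk z) (⟨φ a, hnq⟩ : q.primeCompl)
    exact (IsLocalization.AtPrime.isUnit_to_map_iff (X.presheaf.stalk (i z)) p a).mp
      ((isUnit_map_iff (i.stalkMap z).hom _).mp h1) hp
  show RingHom.ker (i.stalkMap z).hom = (RingHom.ker φ).map (algebraMap _ (X.presheaf.stalk (i z)))
  refine le_antisymm ?_ (Ideal.map_le_iff_le_comap.mpr fun a ha ↦ ?_)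
  · intro w hw
    obtain ⟨a, s, rfl⟩ := IsLocalization.exists_mk'_eq p.primeCompl w
    rw [IsLocalization.mk'_mem_map_algebraMap_iff]
    have h1 : (i.stalkMap z).hom (algebraMap _ _ a) = 0 := by
      rw [← IsLocalization.mk'_spec (X.presheaf.stalk (i z)) a s, map_mul, RingHom.mem_ker.mp hw, zero_mul]
    rw [hgerm, IsLocalization.map_eq_zero_iff q.primeCompl] at h1
    obtain ⟨⟨m, hm⟩, hma⟩ := h1
    obtain ⟨t, rfl⟩ := hsurj m
    exact ⟨t, hmem' t hm, RingHom.mem_ker.mpr (by rw [map_mul]; exact hma)⟩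
  · rw [Ideal.mem_comap, RingHom.mem_ker, hgerm, RingHom.mem_ker.mp ha, map_zero]

/-- The kernel on stalks of the closed subscheme of an affine open cut out by a list of sections. -/
theorem ker_stalkMap_ofList {X : Scheme.{u}} {W : X.Opens} (hW : IsAffineOpen W) (c : List Γ(X, W))
    (y : Spec (CommRingCat.of (Γ(X, W) ⧸ Ideal.ofList c)))
    (hy : (Spec.map (CommRingCat.ofHom (Ideal.Quotient.mk (Ideal.ofList c))) ≫ hW.fromSpec) y ∈ W) :
    RingHom.ker ((Spec.map (CommRingCat.ofHom (Ideal.Quotient.mk (Ideal.ofList c))) ≫ hW.fromSpec).stalkMap y).hom =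
      Ideal.ofList (c.map (X.presheaf.germ W _ hy).hom) := by
  set mk := CommRingCat.ofHom (Ideal.Quotient.mk (Ideal.ofList c))
  have happ : ∀ (V : (Spec Γ(X, W)).Opens) (hV : V = ⊤),
      ∃ e : CommRingCat.of (Γ(X, W) ⧸ Ideal.ofList c) ≅ Γ(Spec (CommRingCat.of (Γ(X, W) ⧸ Ideal.ofList c)), Spec.map mk ⁻¹ᵁ V),
      ((Scheme.ΓSpecIso Γ(X, W)).inv ≫ (Spec Γ(X, W)).presheaf.map (eqToHom hV).op) ≫ (Spec.map mk).app V =
        mk ≫ e.hom := by
    intro V hV
    subst hV
    refine ⟨(Scheme.ΓSpecIso _).symm, ?_⟩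
    simp only [eqToHom_refl, op_id, CategoryTheory.Functor.map_id, Category.comp_id, Iso.symm_hom]
    exact (Scheme.ΓSpecIso_inv_naturality mk).symm
  obtain ⟨e, he⟩ := happ _ hW.fromSpec_preimage_self
  have hk : (Spec.map mk ≫ hW.fromSpec).app W = mk ≫ e.hom := by
    rw [← he, ← hW.fromSpec_app_self]
    rfl
  have hker : RingHom.ker ((Spec.map mk ≫ hW.fromSpec).app W).hom = Ideal.ofList c := by
    rw [hk]
    ext a
    rw [RingHom.mem_ker]
    show e.hom (Ideal.Quotient.mk (Ideal.ofList c) a) = 0 ↔ _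
    rw [← map_zero e.hom.hom, (ConcreteCategory.bijective_of_isIso e.hom).1.eq_iff, Ideal.Quotient.eq_zero_iff_mem]
  have hsurj : Function.Surjective ((Spec.map mk ≫ hW.fromSpec).app W).hom := by
    rw [hk]
    exact (ConcreteCategory.bijective_of_isIso e.hom).2.comp Ideal.Quotient.mk_surjective
  have hV : IsAffineOpen ((Spec.map mk ≫ hW.fromSpec) ⁻¹ᵁ W) := by
    rw [Scheme.Hom.comp_preimage, hW.fromSpec_preimage_self]
    exact isAffineOpen_top _
  rw [ker_stalkMap_of_surjective_app _ hW hV hsurj y hy, hker, Ideal.map_ofList]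

/-- The fibre local ring of a closed subscheme. -/
theorem nonempty_fibre_equiv_of_ker {Z X Y : Scheme.{u}} (k : Z ⟶ X) (f : X ⟶ Y) (y : Z)
    (hsurj : Function.Surjective (k.stalkMap y).hom) (I : Ideal (X.presheaf.stalk (k y)))
    (hker : RingHom.ker (k.stalkMap y).hom = I) :
    Nonempty ((Z.presheaf.stalk y ⧸ (maximalIdeal (Y.presheaf.stalk ((k ≫ f) y))).map ((k ≫ f).stalkMap y).hom) ≃+*
      ((X.presheaf.stalk (k y) ⧸ (maximalIdeal (Y.presheaf.stalk (f (k y)))).map (f.stalkMap (k y)).hom) ⧸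
        I.map (Ideal.Quotient.mk ((maximalIdeal (Y.presheaf.stalk (f (k y)))).map (f.stalkMap (k y)).hom)))) := by
  set J := (maximalIdeal (Y.presheaf.stalk (f (k y)))).map (f.stalkMap (k y)).hom
  have hc : ((k ≫ f).stalkMap y).hom = (k.stalkMap y).hom.comp (f.stalkMap (k y)).hom := by
    rw [Scheme.Hom.stalkMap_comp]; rfl
  let π : X.presheaf.stalk (k y) →+*
      Z.presheaf.stalk y ⧸ (maximalIdeal (Y.presheaf.stalk ((k ≫ f) y))).map ((k ≫ f).stalkMap y).hom :=
    (Ideal.Quotient.mk _).comp (k.stalkMap y).hom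
  have hπs : Function.Surjective π := Ideal.Quotient.mk_surjective.comp hsurj
  have hπk : RingHom.ker π = I ⊔ J := by
    show RingHom.ker ((Ideal.Quotient.mk _).comp (k.stalkMap y).hom) = _
    rw [← RingHom.comap_ker, Ideal.mk_ker]
    have h1 : (maximalIdeal (Y.presheaf.stalk ((k ≫ f) y))).map ((k ≫ f).stalkMap y).hom =
        J.map (k.stalkMap y).hom := by
      exact (congrArg (fun g => (maximalIdeal (Y.presheaf.stalk (f (k y)))).map g) hc).trans
        (Ideal.map_map _ _).symm
    rw [h1, Ideal.comap_map_of_surjective _ hsurj, ← RingHom.ker_eq_comap_bot, hker, sup_comm]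
  exact ⟨((RingHom.quotientKerEquivOfSurjective hπs).symm.trans
    (Ideal.quotEquivOfEq (hπk.trans (sup_comm I J)))).trans (DoubleQuot.quotQuotEquivQuotSup J I).symm⟩

section Closed

variable {X Y : Scheme.{u}} (f : X ⟶ Y)

theorem isClosed_asFiber_iff (x : X) :
    IsClosed ({f.asFiber x} : Set (f.fiber (f x))) ↔ ∀ x', f x' = f x → x ⤳ x' → x' = x := by
  have hemb := (f.fiberι (f x)).isEmbedding
  rw [← closure_subset_iff_isClosed]
  constructor
  · intro h x' hx' hsp
    obtain ⟨w, hw⟩ : x' ∈ Set.range (f.fiberι (f x)) := by rw [Scheme.Hom.range_fiberι]; exact hx'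
    have : f.asFiber x ⤳ w := by
      rw [← hemb.toIsInducing.specializes_iff, f.fiberι_asFiber, hw]; exact hsp
    rw [← hw, h (specializes_iff_mem_closure.1 this), f.fiberι_asFiber]
  · intro h w hw
    refine hemb.injective ?_
    rw [f.fiberι_asFiber]
    refine h _ ?_ ?_
    · exact (f.range_fiberι (f x)).le ⟨w, rfl⟩
    · conv_lhs => rw [← f.fiberι_asFiber x]
      exact (specializes_iff_mem_closure.2 hw).map (f.fiberι (f x)).continuous

theorem isClosed_asFiber_comp {Z : Scheme.{u}} (k : Z ⟶ X) (hk : Function.Injective k) (z : Z)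
    (h : IsClosed ({f.asFiber (k z)} : Set (f.fiber (f (k z))))) :
    IsClosed ({(k ≫ f).asFiber z} : Set ((k ≫ f).fiber ((k ≫ f) z))) := by
  rw [isClosed_asFiber_iff] at h ⊢
  exact fun z' hz' hsp => hk (h (k z') hz' (hsp.map k.continuous))

/-- A section point of finite type is closed in its fibre. -/
theorem isClosed_asFiber_section [LocallyOfFiniteType f] (e : Y ⟶ X) (he : e ≫ f = 𝟙 Y) (y : Y) :
    IsClosed ({f.asFiber (e y)} : Set (f.fiber (f (e y)))) := by
  have hy : f (e y) = y := by rw [← Scheme.Hom.comp_apply, he]; rfl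
  rw [isClosed_asFiber_iff, hy]
  intro x' hx' hsp
  let ι := Y.fromSpecResidueField y
  let σ : Spec (Y.residueField y) ⟶ pullback f ι :=
    pullback.lift (ι ≫ e) (𝟙 _) (by rw [Category.assoc, he, Category.comp_id, Category.id_comp])
  have hσ : σ ≫ pullback.snd f ι = 𝟙 _ := pullback.lift_snd _ _ _
  have : LocallyOfFiniteType (σ ≫ pullback.snd f ι) := by rw [hσ]; infer_instance
  have : LocallyOfFiniteType σ := locallyOfFiniteType_of_comp σ (pullback.snd f ι)
  have : JacobsonSpace ↥(pullback f ι) := LocallyOfFiniteType.jacobsonSpace (pullback.snd f ι)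
  let o : Spec (Y.residueField y) := IsLocalRing.closedPoint _
  have hcl : IsClosed ({σ o} : Set ↥(pullback f ι)) :=
    σ.closePoints_subset_preimage_closedPoints (isClosed_singleton_closedPoint _)
  have hfst : pullback.fst f ι (σ o) = e y := by
    rw [← Scheme.Hom.comp_apply, pullback.lift_fst, Scheme.Hom.comp_apply, Scheme.fromSpecResidueField_apply]
  obtain ⟨w, hw⟩ : x' ∈ Set.range (pullback.fst f ι) := by
    rw [Scheme.Pullback.range_fst, Scheme.range_fromSpecResidueField]; exact hx'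
  have : σ o ⤳ w := by
    rw [← (pullback.fst f ι).isEmbedding.toIsInducing.specializes_iff, hfst, hw]; exact hsp
  rw [← hw, this.mem_closed hcl rfl, hfst]

/-- At a point closed in its fibre the fibre dimension is the dimension of the fibre local ring. -/
theorem fibreDimAt_eq_of_isClosed [LocallyOfFiniteType f] (x : X)
    (hx : IsClosed ({f.asFiber x} : Set (f.fiber (f x)))) :
    FlatMor.fibreDimAt f x =
      ringKrullDim (X.presheaf.stalk x ⧸ (maximalIdeal (Y.presheaf.stalk (f x))).map (f.stalkMap x).hom) := by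
  letI : (f.fiber (f x)).Over (Spec (CommRingCat.of (Y.residueField (f x)))) := ⟨f.fiberToSpecResidueField _⟩
  haveI : LocallyOfFiniteType ((f.fiber (f x)) ↘ Spec (CommRingCat.of (Y.residueField (f x)))) :=
    inferInstanceAs (LocallyOfFiniteType (pullback.snd f (Y.fromSpecResidueField (f x))))
  obtain ⟨e⟩ := Groth.Ega4b.nonempty_fiber_stalk_equiv f (f x) (f.asFiber x) x (f.fiberι_asFiber x)
  rw [FlatMor.fibreDimAt, Groth.Agent.S1617.result (Y.residueField (f x)) (f.fiber (f x)) (f.asFiber x) hx]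
  exact ringKrullDim_eq_of_ringEquiv e.symm

end Closed

end Groth.GrpdSlice
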