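import Groth.Agent.AlgSpFppf.SliceSeq
import Groth.Agent.Ega4Algebra2.CMUnmixed
import Groth.Agent.Smt.GlueLocal
import Groth.Agent.EGA41Two.CMPrime

/-!
# Regular sequences from an ideal cutting a Cohen-Macaulay ring down to small dimension
-/

set_option autoImplicit false
universe u

open IsLocalRing RingTheory.Sequence

namespace Groth.GrpdSlice

/-- If every prime containing the image of `p` has quotient of dimension at most `e`, there is a regular
sequence of length `d` from `p` on a Cohen-Macaulay module of dimension `d + e`. -/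
theorem exists_regular_of_dim_le {A R : Type u} [CommRing A] [CommRing R] [IsLocalRing R]
    [IsNoetherianRing R] (φ : A →+* R) (p : Ideal A) (hp : ∀ a ∈ p, φ a ∈ maximalIdeal R) (e : ℕ)
    (hdim : ∀ P : Ideal R, P.IsPrime → (∀ a ∈ p, φ a ∈ P) → ringKrullDim (R ⧸ P) ≤ (e : WithBot ℕ∞))
    (d : ℕ) : ∀ (M : Type u) [AddCommGroup M] [Module R M] [Module.Finite R M],
      LocCoh.IsCohenMacaulayModule R M → Module.supportDim R M = ((d + e : ℕ) : WithBot ℕ∞) →
      ∃ l : List A, (∀ a ∈ l, a ∈ p) ∧ l.length = d ∧ IsWeaklyRegular M (l.map φ) := by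
  classical
  induction d with
  | zero => intro M _ _ _ _ _; exact ⟨[], by simp, rfl, IsWeaklyRegular.nil R M⟩
  | succ d ih =>
    intro M _ _ _ hM hd
    obtain ⟨a, hap, hreg⟩ : ∃ a ∈ p, IsSMulRegular M (φ a) := by
      by_contra hall
      push Not at hall
      let s := (associatedPrimes.finite R M).toFinset
      have hsub : (p : Set A) ⊆ ⋃ P ∈ (↑s : Set (Ideal R)), (P.comap φ : Set A) := by
        intro a ha
        have hx : φ a ∈ ⋃ P ∈ associatedPrimes R M, (P : Set R) := by
          rw [biUnion_associatedPrimes_eq_compl_regular R M]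
          exact hall a ha
        simp only [Set.mem_iUnion, exists_prop] at hx
        obtain ⟨P, hP, hPa⟩ := hx
        simp only [Set.mem_iUnion, exists_prop]
        exact ⟨P, by simpa [s] using hP, hPa⟩
      have hprime : ∀ P ∈ s, P ≠ (⊥ : Ideal R) → P ≠ ⊥ → (P.comap φ).IsPrime := fun P hP _ _ => by
        have := (show P ∈ associatedPrimes R M by simpa [s] using hP).isPrime
        infer_instance
      obtain ⟨P, hP, hpP⟩ := (Ideal.subset_union_prime (f := fun P : Ideal R => P.comap φ) ⊥ ⊥ hprime).1 hsub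
      have hP' : P ∈ associatedPrimes R M := by simpa [s] using hP
      have h0 := hdim P hP'.isPrime fun a ha => hpP ha
      rw [Groth.LocCohBase.ringKrullDim_quotient_eq_of_CM hM hP', hd] at h0
      norm_cast at h0
      omega
    have hd' : Module.supportDim R (QuotSMulTop (φ a) M) = ((d + e : ℕ) : WithBot ℕ∞) := by
      have h := Module.supportDim_quotSMulTop_succ_eq_supportDim hreg (hp a hap)
      rw [hd, show d + 1 + e = d + e + 1 by omega, Nat.cast_succ] at h
      exact ENat.WithBot.add_natCast_cancel.1 h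
    obtain ⟨l, hl, hlen, hwr⟩ := ih _ (Groth.LocCohBase.isCM_quotSMulTop hM (hp a hap) hreg) hd'
    exact ⟨a :: l, List.forall_mem_cons.2 ⟨hap, hl⟩, by simp [hlen], IsWeaklyRegular.cons hreg hwr⟩

/-- Cutting a Cohen-Macaulay local ring by elements of `p`. -/
theorem exists_cut {A R : Type u} [CommRing A] [CommRing R] [hR : LocCoh.IsCohenMacaulayLocalRing R]
    (φ : A →+* R) (p : Ideal A) (hp : ∀ a ∈ p, φ a ∈ maximalIdeal R) (d e : ℕ)
    (hdim : ∀ P : Ideal R, P.IsPrime → (∀ a ∈ p, φ a ∈ P) → ringKrullDim (R ⧸ P) ≤ (e : WithBot ℕ∞))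
    (hd : ringKrullDim R = ((d + e : ℕ) : WithBot ℕ∞)) :
    ∃ l : List A, (∀ a ∈ l, a ∈ p) ∧ l.length = d ∧ IsWeaklyRegular R (l.map φ) ∧
      LocCoh.IsCohenMacaulayLocalRing (R ⧸ Ideal.ofList (l.map φ)) ∧
      ringKrullDim (R ⧸ Ideal.ofList (l.map φ)) = (e : WithBot ℕ∞) := by
  obtain ⟨l, hl, hlen, hreg⟩ := exists_regular_of_dim_le φ p hp e hdim d R hR.supportDim_eq_depth
    (by rw [Module.supportDim_self_eq_ringKrullDim, hd])
  set I := Ideal.ofList (l.map φ) with hI
  have hm : ∀ x ∈ l.map φ, x ∈ maximalIdeal R := fun x hx => by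
    obtain ⟨a, ha, rfl⟩ := List.mem_map.1 hx
    exact hp a (hl a ha)
  have hne : I ≠ ⊤ := fun h => (maximalIdeal.isMaximal R).ne_top
    (top_le_iff.mp (h ▸ Ideal.span_le.mpr hm))
  have he : I • (⊤ : Submodule R R) = I := by rw [smul_eq_mul, Ideal.mul_top]
  have hsd : Module.supportDim R (R ⧸ I) = (e : WithBot ℕ∞) := by
    have h := Groth.EGA41Two.supportDim_quotient_ofList (M := R) hm hreg
    rw [Module.supportDim_eq_of_equiv (Submodule.quotEquivOfEq _ _ he), List.length_map, hlen,
      Module.supportDim_self_eq_ringKrullDim, hd, Nat.add_comm d e, Nat.cast_add] at h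
    exact ENat.WithBot.add_natCast_cancel.1 h
  have hcm : LocCoh.IsCohenMacaulayModule R (R ⧸ I) :=
    (Groth.Ega4b.isCM_congr (Submodule.quotEquivOfEq _ _ he)).mp
      (Groth.Ega4b.isCM_quotient_ofList (l.map φ) R hR.supportDim_eq_depth hm hreg)
  have : Nontrivial (R ⧸ I) := Ideal.Quotient.nontrivial_iff.mpr hne
  have : IsLocalRing (R ⧸ I) := .of_surjective' (Ideal.Quotient.mk I) Ideal.Quotient.mk_surjective
  have hdimQ : ringKrullDim (R ⧸ I) = (e : WithBot ℕ∞) := by
    rw [← Module.supportDim_quotient_eq_ringKrullDim, hsd]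
  refine ⟨l, hl, hlen, hreg, ⟨?_⟩, hdimQ⟩
  rw [Module.supportDim_self_eq_ringKrullDim, hdimQ, ← hsd, hcm,
    Groth.Smt.depth_eq_of_surjective R (R ⧸ I) Ideal.Quotient.mk_surjective]

end Groth.GrpdSlice
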