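import Groth.Agent.GitQuot.Slice.StabDim
import Groth.Agent.GitQuot.Slice.Seq
import Groth.Agent.GitQuot.Slice.Local
import Groth.Agent.AlgSpFppf.SlicePoints
import Groth.Agent.CMMor.QFChart
import Groth.Agent.CMMor.Criterion
import Groth.Agent.FibreDim.Retrocompact

/-!
# Slicing a groupoid with Cohen-Macaulay source map at a finite type point
-/

set_option autoImplicit false
set_option backward.isDefEq.respectTransparency false
set_option backward.isDefEq.respectTransparency.types false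
universe u

open AlgebraicGeometry CategoryTheory CategoryTheory.Limits IsLocalRing Topology

noncomputable section

namespace Groth.GrpdSlice

/-- Points of the local ring killing the maximal ideal downstairs lie in the fibre. -/
theorem apply_fromSpecStalk_eq {X Y : Scheme.{u}} (f : X ⟶ Y) (x : X) {Q : Type u} [CommRing Q]
    (π : X.presheaf.stalk x →+* Q)
    (h : ∀ a ∈ maximalIdeal (Y.presheaf.stalk (f x)), π ((f.stalkMap x).hom a) = 0)
    (z : Spec (CommRingCat.of Q)) : f ((Spec.map (CommRingCat.ofHom π) ≫ X.fromSpecStalk x) z) = f x := by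
  rw [← Scheme.Hom.comp_apply, Category.assoc, ← Scheme.SpecMap_stalkMap_fromSpecStalk,
    ← Category.assoc, ← Spec.map_comp, Scheme.Hom.comp_apply]
  have hz : Spec.map (f.stalkMap x ≫ CommRingCat.ofHom π) z = closedPoint (Y.presheaf.stalk (f x)) := by
    refine PrimeSpectrum.ext ?_
    refine ((maximalIdeal.isMaximal (Y.presheaf.stalk (f x))).eq_of_le
      (PrimeSpectrum.isPrime _).ne_top fun a ha => ?_).symm
    show π ((f.stalkMap x).hom a) ∈ z.asIdeal
    rw [h a ha]
    exact zero_mem _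
  rw [hz, Scheme.fromSpecStalk_closedPoint]

variable {S : Scheme.{u}} (G : Grpd.GroupoidScheme S) (u : G.U)

theorem exists_dim_stabilizer_eq_nat [LocallyOfFiniteType G.s] [LocallyOfFiniteType (G.U.fromSpecResidueField u)] :
    ∃ d₁ d : ℕ, topologicalKrullDim ↥(G.stabilizerToU.fiber u) = (d₁ : WithBot ℕ∞) ∧
      FlatMor.fibreDimAt G.s (G.e u) = (d : WithBot ℕ∞) ∧ d₁ ≤ d := by
  obtain ⟨d, hd⟩ := Groth.CMMor.exists_fibreDimAt_eq_nat G.s (G.e u)
  have hle := dim_stabilizer_le G u
  rw [hd] at hle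
  have h0 : (0 : WithBot ℕ∞) ≤ topologicalKrullDim ↥(G.stabilizerToU.fiber u) := by
    rw [← dim_loops, ← localDim_loops]
    exact Groth.SpectralTopology.localDim_nonneg _
  obtain ⟨a, ha⟩ := WithBot.ne_bot_iff_exists.1 (ne_bot_of_le_ne_bot (by simp) h0)
  rw [← ha] at hle ⊢
  obtain ⟨d₁, rfl⟩ := ENat.ne_top_iff_exists.1 (ne_top_of_le_ne_top (ENat.coe_ne_top d) (WithBot.coe_le_coe.1 hle))
  exact ⟨d₁, d, rfl, hd, by exact_mod_cast hle⟩

/-- The closed subscheme of an affine open cut out by a list of sections. -/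
abbrev slice {X : Scheme.{u}} {V : X.Opens} (hV : IsAffineOpen V) (l : List Γ(X, V)) :
    Spec (CommRingCat.of (Γ(X, V) ⧸ Ideal.ofList l)) ⟶ X :=
  Spec.map (CommRingCat.ofHom (Ideal.Quotient.mk (Ideal.ofList l))) ≫ hV.fromSpec

theorem isImmersion_slice {X : Scheme.{u}} {V : X.Opens} (hV : IsAffineOpen V) (l : List Γ(X, V)) :
    IsImmersion (slice hV l) := by
  have : IsClosedImmersion (Spec.map (CommRingCat.ofHom (Ideal.Quotient.mk (Ideal.ofList l)))) :=
    IsClosedImmersion.spec_of_surjective _ Ideal.Quotient.mk_surjective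
  infer_instance

theorem lfp_slice {X : Scheme.{u}} {V : X.Opens} (hV : IsAffineOpen V) (l : List Γ(X, V)) :
    LocallyOfFinitePresentation (slice hV l) := by
  refine MorphismProperty.comp_mem @LocallyOfFinitePresentation _ _ ?_ inferInstance
  rw [HasRingHomProperty.Spec_iff (P := @LocallyOfFinitePresentation)]
  exact RingHom.FinitePresentation.of_surjective _ Ideal.Quotient.mk_surjective
    ((congrArg Ideal.FG Ideal.mk_ker).mpr (Submodule.fg_span (List.finite_toSet l)))

/-- Slicing at the identity of a finite type point, by `n` functions. -/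
theorem exists_slice [LocallyOfFinitePresentation G.s] [LocallyOfFiniteType (G.U.fromSpecResidueField u)]
    (hcm : Grpd.IsCMAt G.s (G.e u)) (d₁ d n : ℕ)
    (hd₁ : topologicalKrullDim ↥(G.stabilizerToU.fiber u) = (d₁ : WithBot ℕ∞))
    (hd : FlatMor.fibreDimAt G.s (G.e u) = (d : WithBot ℕ∞)) (hn : d₁ + n ≤ d) :
    ∃ (V : G.U.Opens) (hV : IsAffineOpen V) (l : List Γ(G.U, V))
      (u' : Spec (CommRingCat.of (Γ(G.U, V) ⧸ Ideal.ofList l))) (z : ↥(pullback (slice hV l) G.t)),
      slice hV l u' = u ∧ pullback.fst (slice hV l) G.t z = u' ∧ pullback.snd (slice hV l) G.t z = G.e u ∧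
      Grpd.IsCMAt (pullback.snd (slice hV l) G.t ≫ G.s) z ∧
      FlatMor.fibreDimAt (pullback.snd (slice hV l) G.t ≫ G.s) z = ((d - n : ℕ) : WithBot ℕ∞) := by
  classical
  set r := G.e u with hr
  have hsr : G.s r = u := by rw [hr, ← Scheme.Hom.comp_apply, G.e_s]; rfl
  have htr : G.t r = u := by rw [hr, ← Scheme.Hom.comp_apply, G.e_t]; rfl
  obtain ⟨hflat, hcmR⟩ := (Groth.Flatmor4.isCMAt_iff G.s r).1 ((Groth.Flatmor4.isCMAt_iff G.s r).2 hcm)
  -- an affine chart where `u` is closed
  obtain ⟨V, hV, hrV, -, hmax⟩ := Groth.AlgSpFppf.exists_isMaximal_image (G.U.fromSpecResidueField u)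
    (W := ⊤) (isAffineOpen_top _) ⟨IsLocalRing.closedPoint (G.U.residueField u), trivial⟩
    (by
      have : Subsingleton ↥(⊤ : (Spec (G.U.residueField u)).Opens) :=
        (inferInstanceAs (Subsingleton { x : PrimeSpectrum (G.U.residueField u) // x ∈ (⊤ : Set _) }))
      exact (Set.subsingleton_singleton).isClosed)
    (Ω := ⊤) trivial
  rw [Scheme.fromSpecResidueField_apply] at hrV
  have hVt : G.t r ∈ V := by rw [htr]; exact hrV
  have hmax' : (hV.primeIdealOf ⟨G.t r, hVt⟩).asIdeal.IsMaximal := by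
    convert hmax using 4
    exact htr.trans (Scheme.fromSpecResidueField_apply _ _).symm
  set p := (hV.primeIdealOf ⟨G.t r, hVt⟩).asIdeal
  set J := (maximalIdeal (G.U.presheaf.stalk (G.s r))).map (G.s.stalkMap r).hom with hJ
  let R := G.R.presheaf.stalk r ⧸ J
  letI := G.U.presheaf.algebra_section_stalk ⟨G.t r, hVt⟩
  haveI := hV.isLocalization_stalk ⟨G.t r, hVt⟩
  let φ : Γ(G.U, V) →+* R :=
    (Ideal.Quotient.mk J).comp ((G.t.stalkMap r).hom.comp (G.U.presheaf.germ V (G.t r) hVt).hom)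
  haveI : LocCoh.IsCohenMacaulayLocalRing R := hcmR
  have hlocal : ∀ x ∈ maximalIdeal (G.R.presheaf.stalk r), Ideal.Quotient.mk J x ∈ maximalIdeal R := by
    intro x hx
    rw [← map_maximalIdeal_of_surjective (Ideal.Quotient.mk J) Ideal.Quotient.mk_surjective]
    exact Ideal.mem_map_of_mem _ hx
  have hp : ∀ a ∈ p, φ a ∈ maximalIdeal R := fun a ha => hlocal _
    ((IsLocalRing.mem_maximalIdeal _).2 fun hu => (IsLocalRing.mem_maximalIdeal _).1
      ((IsLocalization.AtPrime.to_map_mem_maximal_iff (G.U.presheaf.stalk (G.t r)) p a).mpr ha)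
      ((isUnit_map_iff (G.t.stalkMap r).hom _).1 hu))
  -- the part of the fibre cut out by `p` is made of loops
  have hloc : ∀ P : Ideal R, P.IsPrime → (∀ a ∈ p, φ a ∈ P) → ringKrullDim (R ⧸ P) ≤ (d₁ : WithBot ℕ∞) := by
    intro P hP hpP
    let π : G.R.presheaf.stalk r →+* R ⧸ P := (Ideal.Quotient.mk P).comp (Ideal.Quotient.mk J)
    have hπ : Function.Surjective π := Ideal.Quotient.mk_surjective.comp Ideal.Quotient.mk_surjective
    let k := Spec.map (CommRingCat.ofHom π) ≫ G.R.fromSpecStalk r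
    have : IsClosedImmersion (Spec.map (CommRingCat.ofHom π)) := IsClosedImmersion.spec_of_surjective _ hπ
    have hks : ∀ z, G.s (k z) = G.s r := apply_fromSpecStalk_eq G.s r π fun a ha => by
      show Ideal.Quotient.mk P (Ideal.Quotient.mk J ((G.s.stalkMap r).hom a)) = 0
      rw [Ideal.Quotient.eq_zero_iff_mem.2 (Ideal.mem_map_of_mem _ ha), map_zero]
    have hkt : ∀ z, G.t (k z) = G.t r := apply_fromSpecStalk_eq G.t r π fun a ha => by
      have hm : maximalIdeal (G.U.presheaf.stalk (G.t r)) ≤ RingHom.ker (π.comp (G.t.stalkMap r).hom) := by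
        rw [← IsLocalization.AtPrime.map_eq_maximalIdeal p (G.U.presheaf.stalk (G.t r)),
          Ideal.map_le_iff_le_comap]
        intro b hb
        exact Ideal.Quotient.eq_zero_iff_mem.2 (hpP b hb)
      exact hm ha
    rw [← PrimeSpectrum.topologicalKrullDim_eq_ringKrullDim, ← hd₁, ← dim_loops]
    refine IsInducing.topologicalKrullDim_le
      (f := fun z : PrimeSpectrum (R ⧸ P) => (⟨k z, (hks z).trans hsr, (hkt z).trans htr⟩ : loops G u)) ?_
    exact k.isEmbedding.toIsInducing.codRestrict fun z =>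
      (⟨(hks z).trans hsr, (hkt z).trans htr⟩ : k z ∈ loops G u)
  have hrcl : IsClosed ({G.s.asFiber r} : Set (G.s.fiber (G.s r))) :=
    isClosed_asFiber_section G.s G.e G.e_s u
  have hdimR : ringKrullDim R = ((n + (d - n) : ℕ) : WithBot ℕ∞) := by
    rw [← fibreDimAt_eq_of_isClosed G.s r hrcl, hd, Nat.add_sub_cancel' (le_trans (Nat.le_add_left n d₁) hn)]
  obtain ⟨l, hlp, -, hreg, hcmQ, hdimQ⟩ := exists_cut φ p hp n (d - n)
    (fun P hP h => (hloc P hP h).trans (by exact_mod_cast (show d₁ ≤ d - n by omega))) hdimR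
  -- spreading out
  obtain ⟨V₀, hV₀, hrV₀, -⟩ :=
    exists_isAffineOpen_mem_and_subset (x := G.s r) (TopologicalSpace.Opens.mem_top (G.s r))
  obtain ⟨W, hW, hrW, hWV⟩ := exists_isAffineOpen_mem_and_subset (x := r)
    (show r ∈ G.s ⁻¹ᵁ V₀ ⊓ G.t ⁻¹ᵁ V from ⟨hrV₀, hVt⟩)
  have e : W ≤ G.s ⁻¹ᵁ V₀ := fun x hx => (hWV hx).1
  have et : W ≤ G.t ⁻¹ᵁ V := fun x hx => (hWV hx).2
  let c := l.map (G.t.appLE V W et).hom
  have hgerm : ∀ a, G.R.presheaf.germ W r hrW ((G.t.appLE V W et).hom a) =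
      (G.t.stalkMap r).hom (G.U.presheaf.germ V (G.t r) hVt a) := fun a =>
    (Groth.FlatMor2.FibCrit.stalkMap_germ_appLE G.t et r hrW a).symm
  have hmemc : ∀ a ∈ c, G.R.presheaf.germ W r hrW a ∈ maximalIdeal (G.R.presheaf.stalk r) := by
    intro a ha
    obtain ⟨b, hb, rfl⟩ := List.mem_map.1 ha
    rw [hgerm, IsLocalRing.mem_maximalIdeal]
    intro hu
    exact (IsLocalRing.mem_maximalIdeal _).1 (hp b (hlp b hb)) (hu.map (Ideal.Quotient.mk J))
  have hcmap : c.map (fun a => Ideal.Quotient.mk J (G.R.presheaf.germ W r hrW a)) = l.map φ := by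
    simp only [c, List.map_map]
    exact List.map_congr_left fun a _ => congrArg (Ideal.Quotient.mk J) (hgerm a)
  obtain ⟨g, hrg, hall⟩ := Groth.FlatMor2.FibCrit.exists_regular_nhd G.s hV₀ hW e r hrW hflat c hmemc
    (by rw [hcmap]; exact hreg)
  obtain ⟨-, h2, -, -⟩ := hall g dvd_rfl
  let W' := G.R.basicOpen g
  have hW' : IsAffineOpen W' := hW.basicOpen g
  have et' : W' ≤ G.t ⁻¹ᵁ V := (G.R.basicOpen_le g).trans et
  let c' := c.map (G.R.presheaf.map (homOfLE (G.R.basicOpen_le g)).op)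
  haveI : Flat (Spec.map (CommRingCat.ofHom (Ideal.Quotient.mk (Ideal.ofList c'))) ≫ hW'.fromSpec ≫ G.s) := h2
  have hc' : Ideal.ofList c' = (Ideal.ofList l).map (G.t.appLE V W' et').hom := by
    rw [Ideal.map_ofList]
    simp only [c', c, List.map_map]
    congr 1
    refine List.map_congr_left fun a _ => ?_
    exact (ConcreteCategory.congr_hom (G.t.appLE_map et (homOfLE (G.R.basicOpen_le g)).op) a : _)
  let i := slice hV l
  let b := Spec.map (CommRingCat.ofHom (Ideal.Quotient.mk (Ideal.ofList c')))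
  have hpb₀ := (isPullback_SpecMap_of_isPushout _ _ _ _ (Groth.AlgSpFppf.isPushout_quotient (G.t.appLE V W' et')
    (Ideal.ofList l) (Ideal.ofList c') hc'))
  let a := Spec.map (CommRingCat.ofHom
    (Ideal.quotientMap (Ideal.ofList c') (G.t.appLE V W' et').hom (hc' ▸ Ideal.le_comap_map)))
  have hpb₁ : IsPullback b a (Spec.map (G.t.appLE V W' et') ≫ hV.fromSpec) i :=
    ⟨⟨by rw [← Category.assoc, hpb₀.w, Category.assoc]⟩, ⟨PullbackCone.IsLimit.mk _
      (fun k => hpb₀.lift k.fst k.snd (by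
        have := k.condition; rwa [← Category.assoc, ← Category.assoc, cancel_mono] at this))
      (fun k => hpb₀.lift_fst _ _ _) (fun k => hpb₀.lift_snd _ _ _)
      (fun k m h₁ h₂ => hpb₀.hom_ext (by rw [h₁, hpb₀.lift_fst]) (by rw [h₂, hpb₀.lift_snd]))⟩⟩
  rw [hV.SpecMap_appLE_fromSpec G.t hW' et'] at hpb₁
  let j : Spec (CommRingCat.of (Γ(G.R, W') ⧸ Ideal.ofList c')) ⟶ pullback i G.t :=
    pullback.lift a (b ≫ hW'.fromSpec) (by rw [Category.assoc]; exact hpb₁.w.symm)
  have hj : j ≫ pullback.snd i G.t = b ≫ hW'.fromSpec := pullback.lift_snd _ _ _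
  have hpj : IsPullback j b (pullback.snd i G.t) hW'.fromSpec :=
    IsPullback.of_right (by
      rw [show j ≫ pullback.fst i G.t = a from pullback.lift_fst _ _ _]
      exact hpb₁.flip) hj (IsPullback.of_hasPullback i G.t).flip.flip
  haveI : IsOpenImmersion j := MorphismProperty.of_isPullback hpj.flip inferInstance
  have hmem' : ∀ a ∈ c', G.R.presheaf.germ W' r hrg a ∈ maximalIdeal (G.R.presheaf.stalk r) := by
    intro a ha
    obtain ⟨a, ha', rfl⟩ := List.mem_map.mp ha
    rw [G.R.presheaf.germ_res_apply _ r hrg a]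
    exact hmemc a ha'
  obtain ⟨y, hy⟩ := Groth.FlatMor2.FibCrit.mem_range_ofList hW' c' r hrg hmem'
  have hiu : u ∈ Set.range i := by
    refine Groth.FlatMor2.FibCrit.mem_range_ofList hV l u hrV fun a ha => ?_
    suffices ∀ (x : G.U) (hx : x ∈ V), x = G.t r →
        G.U.presheaf.germ V x hx a ∈ maximalIdeal (G.U.presheaf.stalk x) from this u hrV htr.symm
    intro x hx e
    subst e
    exact (IsLocalization.AtPrime.to_map_mem_maximal_iff (G.U.presheaf.stalk (G.t r)) p a).mpr (hlp a ha)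
  obtain ⟨u', hu'⟩ := hiu
  have hz : pullback.snd i G.t (j y) = r := by rw [← Scheme.Hom.comp_apply, hj]; exact hy
  refine ⟨V, hV, l, u', j y, hu', ?_, hz, ?_, ?_⟩
  · have := isImmersion_slice hV l
    refine i.isEmbedding.injective ?_
    rw [hu', ← Scheme.Hom.comp_apply, pullback.condition, Scheme.Hom.comp_apply, hz, htr]
  all_goals
    let k := b ≫ hW'.fromSpec
    have hke : j ≫ pullback.snd i G.t ≫ G.s = k ≫ G.s := by rw [← Category.assoc, hj]
    haveI : IsClosedImmersion b := IsClosedImmersion.spec_of_surjective _ Ideal.Quotient.mk_surjective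
    have key : ∀ (x : G.R), k y = x → x = r → Nonempty
        ((Spec (CommRingCat.of (Γ(G.R, W') ⧸ Ideal.ofList c'))).presheaf.stalk y ⧸
          (maximalIdeal (G.U.presheaf.stalk ((k ≫ G.s) y))).map ((k ≫ G.s).stalkMap y).hom ≃+*
            R ⧸ Ideal.ofList (l.map φ)) := by
      intro x hx hxr
      subst hx
      have hky : k y ∈ W' := by rw [hxr]; exact hrg
      obtain ⟨e'⟩ := nonempty_fibre_equiv_of_ker k G.s y (k.stalkMap_surjective y) _
        (ker_stalkMap_ofList hW' c' y hky)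
      suffices hres : ∀ (x : G.R) (hx : x ∈ W'), x = r → Nonempty
          (((G.R.presheaf.stalk x ⧸ (maximalIdeal (G.U.presheaf.stalk (G.s x))).map (G.s.stalkMap x).hom) ⧸
            (Ideal.ofList (c'.map (G.R.presheaf.germ W' x hx).hom)).map (Ideal.Quotient.mk _)) ≃+*
              R ⧸ Ideal.ofList (l.map φ)) by
        obtain ⟨e''⟩ := hres (k y) hky hxr
        exact ⟨e'.trans e''⟩
      intro x hx hxr
      subst hxr
      refine ⟨Ideal.quotEquivOfEq ?_⟩
      rw [Ideal.map_ofList, ← hcmap]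
      simp only [c', List.map_map]
      congr 1
      refine List.map_congr_left fun a _ => ?_
      exact congrArg (Ideal.Quotient.mk J) (G.R.presheaf.germ_res_apply _ _ hx a)
    obtain ⟨eQ⟩ := key _ rfl hy
  · have hcmk : MoreMor.IsCMAt (k ≫ G.s) y := by
      refine (Groth.Flatmor4.isCMAt_iff _ y).2 ⟨?_, Groth.Ega4b.isCohenMacaulayLocalRing_of_ringEquiv eQ.symm hcmQ⟩
      haveI : Flat (k ≫ G.s) := by rw [Category.assoc]; exact h2
      exact Flat.stalkMap _ _
    rw [← hke, Groth.CMMor.isCMAt_openImmersion_comp] at hcmk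
    exact (Groth.Flatmor4.isCMAt_iff _ _).1 hcmk
  · rw [← Groth.FibreDim.fibreDimAt_openImmersion_comp, hke, fibreDimAt_eq_of_isClosed _ y
      (isClosed_asFiber_comp G.s k k.isEmbedding.injective y (by
        show IsClosed ({G.s.asFiber (k y)} : Set (G.s.fiber (G.s (k y))))
        rw [show k y = r from hy]; exact hrcl)),
      ringKrullDim_eq_of_ringEquiv eQ, hdimQ]

end Groth.GrpdSlice
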