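import Groth.Agent.Calg4.GrpdFieldEquidim
import Groth.Agent.Calg4.GrpdFieldDim
import Groth.Agent.GitQuot.GrpdPullback
import Groth.Agent.FibreDim.Composition
import Groth.Agent.S5792

/-!
# The stabilizer of a finite type point and the loops at that point

For a point `u` of finite type the set of arrows from `u` to `u` is the groupoid restricted to `Spec κ(u)`,
a groupoid over a field, hence equidimensional of the dimension of the stabilizer.
-/

set_option autoImplicit false
set_option backward.isDefEq.respectTransparency.types false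
universe u

open AlgebraicGeometry CategoryTheory CategoryTheory.Limits Topology

noncomputable section

namespace Groth.GrpdSlice

theorem localDim_le_of_isInducing {A B : Type*} [TopologicalSpace A] [TopologicalSpace B] {f : A → B}
    (hf : IsInducing f) (a : A) : FlatMor.localDim A a ≤ FlatMor.localDim B (f a) := by
  obtain ⟨V, hV, hd⟩ := Groth.SpectralTopology.exists_localDim_eq (f a)
  rw [← hd]
  refine (Groth.SpectralTopology.localDim_le_of_mem (U := V.comap ⟨f, hf.continuous⟩) hV).trans ?_
  exact IsInducing.topologicalKrullDim_le (f := (V : Set B).restrictPreimage f)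
    (Set.restrictPreimage_isInducing _ hf)

variable {S : Scheme.{u}} (G : Grpd.GroupoidScheme S) (u : G.U)

/-- The arrows from `u` to `u`. -/
def loops : Set G.R := G.s ⁻¹' {u} ∩ G.t ⁻¹' {u}

theorem e_mem_loops : G.e u ∈ loops G u :=
  ⟨show G.s (G.e u) = u by rw [← Scheme.Hom.comp_apply, G.e_s]; rfl,
    show G.t (G.e u) = u by rw [← Scheme.Hom.comp_apply, G.e_t]; rfl⟩

/-- The fibre of the stabilizer over `u` is the fibre of `j` over the diagonal. -/
theorem dim_stabilizer_fiber :
    topologicalKrullDim ↥(G.stabilizerToU.fiber u) = topologicalKrullDim ↥(G.j ⁻¹' {G.diag u}) := by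
  have : IsImmersion G.diag := inferInstanceAs (IsImmersion (pullback.diagonal G.pU))
  have he : IsPreimmersion (pullback.fst G.j G.diag) := MorphismProperty.pullback_fst _ _ inferInstance
  rw [← Groth.Variety2.Dim.dim_preimage_singleton]
  let f : ↥(pullback.snd G.j G.diag ⁻¹' {u}) → ↥(G.j ⁻¹' {G.diag u}) := fun z =>
    ⟨pullback.fst G.j G.diag z.1, by
      have hz : pullback.snd G.j G.diag z.1 = u := z.2
      show G.j _ = _
      rw [← Scheme.Hom.comp_apply, pullback.condition, Scheme.Hom.comp_apply, hz]⟩
  have hemb : IsEmbedding f :=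
    ((pullback.fst G.j G.diag).isEmbedding.comp IsEmbedding.subtypeVal).codRestrict _ fun z => (f z).2
  have hsurj : Function.Surjective f := fun r => by
    obtain ⟨z, hz₁, hz₂⟩ := Scheme.Pullback.exists_preimage_pullback (f := G.j) (g := G.diag) r.1 u r.2
    exact ⟨⟨z, hz₂⟩, Subtype.ext hz₁⟩
  exact (hemb.toHomeomorphOfSurjective hsurj).isHomeomorph.topologicalKrullDim_eq _

section Field

variable [LocallyOfFiniteType G.s] [LocallyOfFiniteType (G.U.fromSpecResidueField u)]

/-- The groupoid restricted to `Spec κ(u)`. -/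
abbrev atPoint : Grpd.GroupoidScheme S := Groth.GrpdPullback.grpd G (G.U.fromSpecResidueField u)

/-- The inclusion of the arrows of the restriction. -/
abbrev incl : (atPoint G u).R ⟶ G.R := Groth.GrpdPullback.arrow G (G.U.fromSpecResidueField u)

instance isPreimmersion_incl : IsPreimmersion (incl G u) := by
  have h1 : IsPreimmersion (pullback.fst G.t (G.U.fromSpecResidueField u)) :=
    MorphismProperty.pullback_fst _ _ inferInstance
  have h2 : IsPreimmersion
      (pullback.fst (Groth.GrpdPullback.q G (G.U.fromSpecResidueField u)) (G.U.fromSpecResidueField u)) :=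
    MorphismProperty.pullback_fst _ _ inferInstance
  exact inferInstanceAs (IsPreimmersion (pullback.fst (Groth.GrpdPullback.q G (G.U.fromSpecResidueField u))
    (G.U.fromSpecResidueField u) ≫ pullback.fst G.t (G.U.fromSpecResidueField u)))

instance locallyOfFiniteType_atPoint : LocallyOfFiniteType (atPoint G u).s := by
  have : LocallyOfFiniteType (pullback.fst G.t (G.U.fromSpecResidueField u)) :=
    MorphismProperty.pullback_fst _ _ inferInstance
  have : LocallyOfFiniteType (Groth.GrpdPullback.q G (G.U.fromSpecResidueField u)) := inferInstance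
  exact inferInstanceAs (LocallyOfFiniteType
    (pullback.snd (Groth.GrpdPullback.q G (G.U.fromSpecResidueField u)) (G.U.fromSpecResidueField u)))

theorem range_incl : Set.range (incl G u) = loops G u := by
  let ι := G.U.fromSpecResidueField u
  apply Set.Subset.antisymm
  · rintro _ ⟨z, rfl⟩
    refine ⟨?_, ?_⟩
    · show G.s _ = u
      rw [← Scheme.Hom.comp_apply, Groth.GrpdPullback.arrow_s, Scheme.Hom.comp_apply,
        Scheme.fromSpecResidueField_apply]
    · show G.t _ = u
      rw [← Scheme.Hom.comp_apply, Groth.GrpdPullback.arrow_t, Scheme.Hom.comp_apply,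
        Scheme.fromSpecResidueField_apply]
  · rintro r ⟨hs, ht⟩
    let o : Spec (G.U.residueField u) := IsLocalRing.closedPoint _
    have ho : ι o = u := Scheme.fromSpecResidueField_apply _ _
    obtain ⟨v, hv₁, hv₂⟩ := Scheme.Pullback.exists_preimage_pullback (f := G.t) (g := ι) r o
      ((show G.t r = u from ht).trans ho.symm)
    obtain ⟨z, hz₁, -⟩ := Scheme.Pullback.exists_preimage_pullback (f := Groth.GrpdPullback.q G ι) (g := ι) v o
      (by rw [Scheme.Hom.comp_apply, hv₁]; exact (show G.s r = u from hs).trans ho.symm)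
    exact ⟨z, by rw [incl, Groth.GrpdPullback.arrow, Scheme.Hom.comp_apply, hz₁, hv₁]⟩

/-- The arrows of the restriction are the loops at `u`. -/
def inclHomeo : (atPoint G u).R ≃ₜ loops G u :=
  (incl G u).isEmbedding.toHomeomorph.trans (Homeomorph.setCongr (range_incl G u))

theorem inclHomeo_apply (z : (atPoint G u).R) : (inclHomeo G u z : G.R) = incl G u z := rfl

/-- The loops at `u` are equidimensional at the identity. -/
theorem localDim_loops :
    FlatMor.localDim ↥(loops G u) ⟨G.e u, e_mem_loops G u⟩ = topologicalKrullDim ↥(loops G u) := by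
  let G' := atPoint G u
  let o : G'.U := IsLocalRing.closedPoint (G.U.residueField u)
  have hU : Subsingleton G'.U := inferInstanceAs (Subsingleton (PrimeSpectrum (G.U.residueField u)))
  have he : inclHomeo G u (G'.e o) = ⟨G.e u, e_mem_loops G u⟩ := by
    refine Subtype.ext ?_
    rw [inclHomeo_apply, ← Scheme.Hom.comp_apply]
    show (Groth.GrpdPullback.e' G (G.U.fromSpecResidueField u) ≫
      Groth.GrpdPullback.arrow G (G.U.fromSpecResidueField u)) o = G.e u
    rw [Groth.GrpdPullback.e', Groth.GrpdPullback.mk_arrow, Scheme.Hom.comp_apply,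
      Scheme.fromSpecResidueField_apply]
  rw [← he, ← Groth.FibreDim.localDim_eq_of_homeomorph, ← (inclHomeo G u).isHomeomorph.topologicalKrullDim_eq,
    Groth.Agent.S5792.result]
  have : Nonempty G'.R := ⟨G'.e o⟩
  have hc : ∀ z : G'.R, FlatMor.localDim G'.R z = FlatMor.localDim G'.R (G'.e o) := fun z => by
    rw [Groth.Calg4.GrpdDim.localDim_eq_localDim_e G' (Iso.refl _) z, Subsingleton.elim (G'.t z) o]
  exact le_antisymm (le_iSup (fun z : G'.R => FlatMor.localDim G'.R z) (G'.e o))
    (iSup_le fun z => (hc z).le)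

/-- The loops at `u` have the dimension of the stabilizer at `u`. -/
theorem dim_loops : topologicalKrullDim ↥(loops G u) = topologicalKrullDim ↥(G.stabilizerToU.fiber u) := by
  let ι := G.U.fromSpecResidueField u
  let G' := atPoint G u
  let o : G'.U := IsLocalRing.closedPoint (G.U.residueField u)
  have hU : Subsingleton G'.U := inferInstanceAs (Subsingleton (PrimeSpectrum (G.U.residueField u)))
  have hd : IsImmersion G'.diag := inferInstanceAs (IsImmersion (pullback.diagonal G'.pU))
  have he : IsPreimmersion (pullback.fst G'.j G'.diag) := MorphismProperty.pullback_fst _ _ inferInstance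
  rw [dim_stabilizer_fiber, ← (inclHomeo G u).isHomeomorph.topologicalKrullDim_eq,
    Groth.Calg4.GrpdDim.dim_eq G' (Iso.refl _)]
  have hr : Set.range (pullback.fst G'.j G'.diag) = G'.j ⁻¹' {G'.diag o} := by
    rw [Scheme.Pullback.range_fst]
    congr 1
    ext z
    exact ⟨fun ⟨v, hv⟩ => hv ▸ congrArg G'.diag (Subsingleton.elim v o), fun hz => ⟨o, hz.symm⟩⟩
  rw [show topologicalKrullDim G'.stabilizer = topologicalKrullDim ↥(G'.j ⁻¹' {G'.diag o}) from
    ((pullback.fst G'.j G'.diag).isEmbedding.toHomeomorph.trans
      (Homeomorph.setCongr hr)).isHomeomorph.topologicalKrullDim_eq _]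
  let m : pullback G'.pU G'.pU ⟶ pullback G.pU G.pU :=
    pullback.map G'.pU G'.pU G.pU G.pU ι ι (𝟙 S) (Category.comp_id _) (Category.comp_id _)
  have : IsPreimmersion m :=
    MorphismProperty.pullbackMap (P := @IsPreimmersion) (i₁ := ι) (i₂ := ι) inferInstance inferInstance rfl rfl
  have hj : G'.j ≫ m = incl G u ≫ G.j := by
    apply pullback.hom_ext
    · simp only [m, Category.assoc, pullback.lift_fst, Groth.GrpdBasic.j_fst]
      rw [← Category.assoc, Groth.GrpdBasic.j_fst]
      exact (Groth.GrpdPullback.arrow_t G ι).symm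
    · simp only [m, Category.assoc, pullback.lift_snd, Groth.GrpdBasic.j_snd]
      rw [← Category.assoc, Groth.GrpdBasic.j_snd]
      exact (Groth.GrpdPullback.arrow_s G ι).symm
  have hdm : G'.diag ≫ m = ι ≫ G.diag := by
    apply pullback.hom_ext
    · simp only [m, Category.assoc, pullback.lift_fst, Groth.GrpdBasic.diag_fst, Category.comp_id]
      rw [← Category.assoc, Groth.GrpdBasic.diag_fst, Category.id_comp]
    · simp only [m, Category.assoc, pullback.lift_snd, Groth.GrpdBasic.diag_snd, Category.comp_id]
      rw [← Category.assoc, Groth.GrpdBasic.diag_snd, Category.id_comp]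
  have hdo : m (G'.diag o) = G.diag u := by
    rw [← Scheme.Hom.comp_apply, hdm, Scheme.Hom.comp_apply, Scheme.fromSpecResidueField_apply]
  let f : ↥(G'.j ⁻¹' {G'.diag o}) → ↥(G.j ⁻¹' {G.diag u}) := fun z => ⟨incl G u z.1, by
    have hz : G'.j z.1 = G'.diag o := z.2
    show G.j _ = _
    rw [← Scheme.Hom.comp_apply, ← hj, Scheme.Hom.comp_apply, hz, hdo]⟩
  have hemb : IsEmbedding f := ((incl G u).isEmbedding.comp IsEmbedding.subtypeVal).codRestrict _ fun z => (f z).2
  have hsurj : Function.Surjective f := fun r => by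
    have hrj : G.j r.1 = G.diag u := r.2
    obtain ⟨z, hz⟩ : r.1 ∈ Set.range (incl G u) := by
      rw [range_incl]
      refine ⟨?_, ?_⟩
      · show G.s r.1 = u
        rw [← Groth.GrpdBasic.j_snd, Scheme.Hom.comp_apply, hrj, ← Scheme.Hom.comp_apply,
          Groth.GrpdBasic.diag_snd]; rfl
      · show G.t r.1 = u
        rw [← Groth.GrpdBasic.j_fst, Scheme.Hom.comp_apply, hrj, ← Scheme.Hom.comp_apply,
          Groth.GrpdBasic.diag_fst]; rfl
    refine ⟨⟨z, m.isEmbedding.injective ?_⟩, Subtype.ext hz⟩
    rw [← Scheme.Hom.comp_apply, hj, Scheme.Hom.comp_apply, hz, hrj, hdo]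
  exact (hemb.toHomeomorphOfSurjective hsurj).isHomeomorph.topologicalKrullDim_eq _

/-- The stabilizer is at most as big as the fibre of the source map at the identity. -/
theorem dim_stabilizer_le :
    topologicalKrullDim ↥(G.stabilizerToU.fiber u) ≤ FlatMor.fibreDimAt G.s (G.e u) := by
  rw [← dim_loops, ← localDim_loops]
  refine (localDim_le_of_isInducing (B := ↥(G.s ⁻¹' {u}))
    (IsEmbedding.inclusion (Set.inter_subset_left : loops G u ⊆ G.s ⁻¹' {u})).toIsInducing _).trans ?_
  exact (Groth.FibreDim.fibreDimAt_eq_of_range G.s u (e := ((↑) : ↥(G.s ⁻¹' {u}) → G.R))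
    IsEmbedding.subtypeVal Subtype.range_coe ⟨G.e u, (e_mem_loops G u).1⟩).ge

end Field

end Groth.GrpdSlice
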